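import Groth.Agent.QCoh.Tilde
import Groth.Agent.QCoh.SubCompare
import Groth.Agent.QCoh.DevissageIdeal
import Groth.Agent.KFlatLib.Scheme.Grothendieck
import Groth.Prelude.Def_QCohCat
import Mathlib.CategoryTheory.Abelian.Subcategory
import Mathlib.CategoryTheory.Abelian.GrothendieckAxioms.Basic
import Mathlib.CategoryTheory.ObjectProperty.FiniteProducts

/-!
# The category of quasi-coherent modules is abelian with exact filtered colimits
-/

set_option autoImplicit false

universe u

open CategoryTheory CategoryTheory.Limits AlgebraicGeometry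

namespace Groth.Agent.QCohAb

variable (X : Scheme.{u})

instance : (QCohCat.isQCoh X).IsClosedUnderIsomorphisms where
  of_iso e h := (QCoh.isQCoh_iff_iso e).1 h

instance : (QCohCat.isQCoh X).IsClosedUnderKernels where
  kernels_le := by
    rintro _ ⟨f, k, hk, hX, hY⟩
    exact (QCoh.isQCoh_iff_iso (hk.conePointUniqueUpToIso (kernelIsKernel f))).2
      (QCoh.isQCoh_kernel hX hY f)

instance : (QCohCat.isQCoh X).IsClosedUnderCokernels where
  cokernels_le := by
    rintro _ ⟨f, k, hk, hX, hY⟩
    exact (QCoh.isQCoh_iff_iso (hk.coconePointUniqueUpToIso (cokernelIsCokernel f))).2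
      (QCoh.isQCoh_cokernel hX hY f)

instance closedUnderColimits (J : Type u) [SmallCategory J] :
    (QCohCat.isQCoh X).IsClosedUnderColimitsOfShape J where
  colimitsOfShape_le := by
    rintro _ ⟨h⟩
    exact (QCoh.isQCoh_iff_iso (h.isColimit.coconePointUniqueUpToIso (colimit.isColimit h.diag))).2
      (QCoh.isQCoh_colimit h.diag h.prop_diag_obj)

instance : (QCohCat.isQCoh X).ContainsZero where
  exists_zero := ⟨colimit ((Functor.empty X.Modules) : Discrete PEmpty.{1} ⥤ _), by
    exact ⟨IsZero.iff_id_eq_zero _ |>.2 (colimit.hom_ext fun j => j.as.elim), by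
      refine (QCoh.isQCoh_iff_iso ?_).2 (QCoh.isQCoh_colimit (Functor.empty.{u} X.Modules : Discrete PEmpty.{u + 1} ⥤ _)
        fun j => j.as.elim)
      exact IsZero.iso (IsZero.iff_id_eq_zero _ |>.2 (colimit.hom_ext fun j => j.as.elim))
        (IsZero.iff_id_eq_zero _ |>.2 (colimit.hom_ext fun j => j.as.elim))⟩⟩

instance : (QCohCat.isQCoh X).IsClosedUnderFiniteProducts :=
  ObjectProperty.IsClosedUnderFiniteProducts.of_isClosedUnderLimitsOfShape fun (J : Type u) _ => ⟨by
    rintro _ ⟨h⟩
    classical
    haveI := Fintype.ofFinite J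
    haveI := HasFiniteBiproducts.of_hasFiniteProducts (C := X.Modules)
    let T : J → X.Modules := fun j => h.diag.obj ⟨j⟩
    refine (QCoh.isQCoh_iff_iso ?_).2 (QCoh.isQCoh_biproduct T fun j => h.prop_diag_obj ⟨j⟩)
    exact h.isLimit.conePointUniqueUpToIso
      ((IsLimit.postcomposeHomEquiv Discrete.natIsoFunctor.symm _).symm (biproduct.isLimit T))⟩

noncomputable instance abelian : Abelian (QCohCat.QCoh X) :=
  inferInstanceAs (Abelian (QCohCat.isQCoh X).FullSubcategory)

instance hasColimitsOfShape (J : Type u) [SmallCategory J] : HasColimitsOfShape J (QCohCat.QCoh X) :=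
  inferInstanceAs (HasColimitsOfShape J (QCohCat.isQCoh X).FullSubcategory)

instance hasColimits : HasColimitsOfSize.{u, u} (QCohCat.QCoh X) := ⟨fun _ _ => inferInstance⟩

instance preservesColimits_ι : PreservesColimitsOfSize.{u, u} (QCohCat.isQCoh X).ι :=
  ⟨fun {J} _ => inferInstance⟩

instance preservesFiniteLimits_ι : PreservesFiniteLimits (QCohCat.isQCoh X).ι := by
  haveI := fun (A B : (QCohCat.isQCoh X).FullSubcategory) (f : A ⟶ B) => (QCohCat.isQCoh X).preservesKernels_ι f
  exact Functor.preservesFiniteLimits_of_preservesKernels _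

instance preservesFiniteColimits_ι : PreservesFiniteColimits (QCohCat.isQCoh X).ι := by
  haveI : PreservesColimitsOfSize.{0, 0} (QCohCat.isQCoh X).ι :=
    preservesColimitsOfSize_shrink.{0, u, 0, u} _
  infer_instance

instance ab5 : AB5OfSize.{u, u} (QCohCat.QCoh X) where
  ofShape J _ _ := by
    haveI : HasExactColimitsOfShape J X.Modules := KFlatLib.hasExactColimitsOfShape X J
    exact HasExactColimitsOfShape.domain_of_functor J (QCohCat.isQCoh X).ι

end Groth.Agent.QCohAb
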