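import Groth.Agent.QCohAb.Basic
import Groth.Agent.QCoh.ExtendFT
import Groth.Agent.QCoh.DevissageTheta
import Mathlib.Algebra.Category.ModuleCat.Presheaf.Free
import Mathlib.Algebra.Category.ModuleCat.Presheaf.Sheafification

/-!
# Small generated quasi-coherent submodules

Every section of a quasi-coherent module lies in a quasi-coherent submodule which is a quotient of one
fixed module, so the quasi-coherent modules form a Grothendieck abelian category.
-/

set_option autoImplicit false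
set_option backward.isDefEq.respectTransparency false
set_option backward.isDefEq.respectTransparency.types false

universe u

open CategoryTheory CategoryTheory.Limits AlgebraicGeometry TopologicalSpace Opposite

namespace Groth.Agent.QCohAb

open QCoh (rs)

variable {X : Scheme.{u}} {G : X.Modules} (hG : Coh.IsQCoh G)

include hG in
theorem exists_seq {U V : X.Opens} (hU : IsAffineOpen U) (hV : IsAffineOpen V) (h : V ≤ U) (x : Γ(G, V)) :
    ∃ s : ℕ → Γ(G, U), x ∈ Submodule.span Γ(X, V) (rs G h '' Set.range s) := by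
  classical
  have hx : x ∈ Submodule.span Γ(X, V) (rs G h '' Set.univ) := by
    refine QCoh.mem_span_of_locally hG hV _ _ fun p hp => ?_
    obtain ⟨f, hfV, hpf⟩ := hU.exists_basicOpen_le ⟨p, hp⟩ (h hp)
    refine ⟨X.basicOpen f, hfV, hpf, ?_⟩
    obtain ⟨n, t, ht⟩ := QCoh.exists_pow_smul_eq_map hG hU f (rs G hfV x)
    obtain ⟨w, hw⟩ := (QCoh.isUnit_rf_basicOpen f).pow n
    have : rs G hfV x = (↑w⁻¹ : Γ(X, X.basicOpen f)) • rs G (X.basicOpen_le f) t := by
      rw [show rs G (X.basicOpen_le f) t = _ from ht, show (QCoh.rf X (X.basicOpen_le f) f) ^ n = _ from hw.symm,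
        ← mul_smul, Units.inv_mul, one_smul]
    rw [this]
    refine Submodule.smul_mem _ _ (Submodule.subset_span ⟨rs G h t, ⟨t, trivial, rfl⟩, ?_⟩)
    rw [QCoh.rs_rs]
  obtain ⟨S, hS, hxS⟩ := Submodule.mem_span_finite_of_mem_span hx
  choose f hf hf' using fun a : S => hS a.2
  refine ⟨fun n => (S.attach.toList.map f).getD n 0, Submodule.span_mono ?_ hxS⟩
  intro a ha
  refine ⟨f ⟨a, ha⟩, ?_, hf' ⟨a, ha⟩⟩
  obtain ⟨n, hn, hn'⟩ := List.getElem_of_mem
    (List.mem_map_of_mem (Finset.mem_toList.2 (Finset.mem_attach S ⟨a, ha⟩)) : f ⟨a, ha⟩ ∈ S.attach.toList.map f)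
  exact ⟨n, by show List.getD _ n 0 = _; rw [List.getD, List.getElem?_eq_getElem hn, hn', Option.getD_some]⟩

/-- The indices of the generators. -/
abbrev L (X : Scheme.{u}) : Type u := List (X.affineOpens × ℕ)

/-- A section over an affine open. -/
abbrev Node (G : X.Modules) := Σ V : X.affineOpens, Γ(G, V.1)

open scoped Classical in
/-- The sections to be added along with a given one. -/
noncomputable def step (a : Node G) : X.affineOpens × ℕ → Node G
  | (V, 0) => ⟨V, if h : V.1 ≤ a.1.1 then rs G h a.2 else 0⟩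
  | (V, n + 1) => ⟨V, if h : a.1.1 ≤ V.1 then (exists_seq hG V.2 a.1.2 h a.2).choose n else 0⟩

/-- All generators. -/
noncomputable def gen (a : Node G) : L X → Node G
  | [] => a
  | p :: l => step hG (gen a l) p

/-- The generators over an affine open. -/
def gens (a : Node G) (V : X.affineOpens) : Set Γ(G, V.1) := {x | ∃ l, gen hG a l = ⟨V, x⟩}

theorem rs_mem_gens (a : Node G) {U V : X.affineOpens} (h : V.1 ≤ U.1) {x : Γ(G, U.1)}
    (hx : x ∈ gens hG a U) : rs G h x ∈ gens hG a V := by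
  obtain ⟨l, hl⟩ := hx
  refine ⟨(V, 0) :: l, ?_⟩
  show step hG (gen hG a l) (V, 0) = _
  rw [hl, step]
  exact congrArg _ (dif_pos h)

theorem mem_span_gens (a : Node G) {U V : X.affineOpens} (h : V.1 ≤ U.1) {x : Γ(G, V.1)}
    (hx : x ∈ gens hG a V) : x ∈ Submodule.span Γ(X, V.1) (rs G h '' gens hG a U) := by
  obtain ⟨l, hl⟩ := hx
  refine Submodule.span_mono (Set.image_mono ?_) (exists_seq hG U.2 V.2 h x).choose_spec
  rintro _ ⟨n, rfl⟩
  refine ⟨(U, n + 1) :: l, ?_⟩
  show step hG (gen hG a l) (U, n + 1) = _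
  rw [hl, step]
  exact congrArg _ (dif_pos h)

theorem span_rs_gens_le (a : Node G) {U V : X.affineOpens} (h : V.1 ≤ U.1) :
    Submodule.span Γ(X, V.1) (rs G h '' gens hG a U) ≤ Submodule.span Γ(X, V.1) (gens hG a V) :=
  Submodule.span_mono fun _ ⟨_, ht, e⟩ => e ▸ rs_mem_gens hG a h ht

open scoped Classical in
/-- The generators as a family with a fixed index type. -/
noncomputable def fam (a : Node G) (V : X.affineOpens) (l : L X) : Γ(G, V.1) :=
  if h : ∃ x, gen hG a l = ⟨V, x⟩ then h.choose else 0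

theorem gens_subset_range (a : Node G) (V : X.affineOpens) : gens hG a V ⊆ Set.range (fam hG a V) := by
  rintro x ⟨l, hl⟩
  refine ⟨l, ?_⟩
  have h : ∃ x, gen hG a l = ⟨V, x⟩ := ⟨x, hl⟩
  rw [fam, dif_pos h]
  exact eq_of_heq (Sigma.mk.inj_iff.1 (h.choose_spec.symm.trans hl)).2

/-- The submodule spanned by the generators. -/
noncomputable def hull (a : Node G) : QCoh.SubMod G where
  mem O :=
    { carrier := {s | ∀ x ∈ O, ∃ (V : X.affineOpens) (hV : V.1 ≤ O), x ∈ V.1 ∧
          rs G hV s ∈ Submodule.span Γ(X, V.1) (gens hG a V)}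
      zero_mem' := fun x hx => by
        obtain ⟨V, hV, hxV, hVO⟩ := exists_isAffineOpen_mem_and_subset hx
        exact ⟨⟨V, hV⟩, hVO, hxV, by rw [rs, map_zero]; exact zero_mem _⟩
      add_mem' := fun {b c} hb hc x hx => by
        obtain ⟨V, hV, hxV, hb'⟩ := hb x hx
        obtain ⟨W, hW, hxW, hc'⟩ := hc x hx
        obtain ⟨P, hP, hxP, hPle⟩ := exists_isAffineOpen_mem_and_subset (x := x) (U := V.1 ⊓ W.1) ⟨hxV, hxW⟩
        have hPV : P ≤ V.1 := hPle.trans inf_le_left
        have hPW : P ≤ W.1 := hPle.trans inf_le_right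
        refine ⟨⟨P, hP⟩, hPV.trans hV, hxP, ?_⟩
        rw [rs, map_add]
        refine add_mem ?_ ?_
        · have := QCoh.rs_mem_span hPV hb'
          rw [QCoh.rs_rs] at this
          exact span_rs_gens_le hG a (V := ⟨P, hP⟩) hPV this
        · have := QCoh.rs_mem_span hPW hc'
          rw [QCoh.rs_rs] at this
          exact span_rs_gens_le hG a (V := ⟨P, hP⟩) hPW this
      smul_mem' := fun r s hs x hx => by
        obtain ⟨V, hV, hxV, h⟩ := hs x hx
        exact ⟨V, hV, hxV, by rw [QCoh.rs_smul]; exact Submodule.smul_mem _ _ h⟩ }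
  map_mem {O O'} i {s} hs x hx := by
    obtain ⟨V, hV, hxV, h⟩ := hs x (i hx)
    obtain ⟨P, hP, hxP, hPle⟩ := exists_isAffineOpen_mem_and_subset (x := x) (U := V.1 ⊓ O') ⟨hxV, hx⟩
    have hPV : P ≤ V.1 := hPle.trans inf_le_left
    refine ⟨⟨P, hP⟩, hPle.trans inf_le_right, hxP, ?_⟩
    have := QCoh.rs_mem_span hPV h
    rw [QCoh.rs_rs] at this
    change rs G _ (rs G i s) ∈ _
    rw [QCoh.rs_rs]
    exact span_rs_gens_le hG a (V := ⟨P, hP⟩) hPV this
  of_locally O s hs x hx := by
    obtain ⟨W, i, hxW, hW⟩ := hs x hx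
    obtain ⟨V, hV, hxV, h⟩ := hW x hxW
    change rs G _ (rs G i s) ∈ _ at h
    rw [QCoh.rs_rs] at h
    exact ⟨V, hV.trans i, hxV, h⟩

theorem mem_hull_iff (a : Node G) (U : X.affineOpens) (s : Γ(G, U.1)) :
    s ∈ (hull hG a).mem U.1 ↔ s ∈ Submodule.span Γ(X, U.1) (gens hG a U) := by
  refine ⟨fun hs => QCoh.mem_span_of_locally hG U.2 _ _ fun x hx => ?_, fun hs x hx => ?_⟩
  · obtain ⟨V, hV, hxV, h⟩ := hs x hx
    exact ⟨V.1, hV, hxV, Submodule.span_le.2 (fun t ht => mem_span_gens hG a hV ht) h⟩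
  · refine ⟨U, le_rfl, hx, ?_⟩
    rwa [QCoh.rs_self]

theorem mem_hull_self (a : Node G) : a.2 ∈ (hull hG a).mem a.1.1 :=
  (mem_hull_iff hG a a.1 _).2 (Submodule.subset_span ⟨[], rfl⟩)

theorem isQCoh_hull (a : Node G) : Coh.IsQCoh (hull hG a).toModules := by
  refine QCoh.isQCoh_of_sections (fun U hU f s => ?_) (fun U hU f t ht => ?_)
  · let D : X.affineOpens := ⟨X.basicOpen f, hU.basicOpen f⟩
    have h1 := (mem_hull_iff hG a D _).1 ((hull hG a).ι_app_mem _ s)
    have h2 : (hull hG a).ι.app D.1 s ∈ Submodule.span Γ(X, D.1)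
        (rs G (X.basicOpen_le f) '' gens hG a ⟨U, hU⟩) :=
      Submodule.span_le.2 (fun t ht => mem_span_gens hG a (U := ⟨U, hU⟩) (X.basicOpen_le f) ht) h1
    obtain ⟨n, u, hu, hue⟩ := QCoh.exists_lift_span hU f _ h2
    obtain ⟨t, ht⟩ := (hull hG a).exists_app_eq ((mem_hull_iff hG a ⟨U, hU⟩ u).2 hu)
    refine ⟨n, t, (hull hG a).ι_app_injective _ ?_⟩
    rw [QCoh.ι_app_smul, QCoh.map_app_comm, ht]
    exact hue
  · obtain ⟨n, hn⟩ := QCoh.exists_pow_smul_eq_zero hG hU f ((hull hG a).ι.app _ t) (by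
      rw [← QCoh.map_app_comm, ht, map_zero])
    exact ⟨n, (hull hG a).ι_app_injective _ (by rw [QCoh.ι_app_smul, hn, map_zero])⟩

variable (X) in
/-- The presheaf of symbols `(V, l)`, defined on the opens below `V`. -/
def symbols : (Opens X)ᵒᵖ ⥤ Type u where
  obj W := {p : X.affineOpens × L X // W.unop ≤ p.1.1}
  map i := ↾fun p => ⟨p.1, (leOfHom i.unop).trans p.2⟩

variable (X) in
/-- The fixed module surjecting to all hulls. -/
noncomputable def freeMod : X.Modules :=
  (PresheafOfModules.sheafification (𝟙 X.ringCatSheaf.obj)).obj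
    ((PresheafOfModules.free X.ringCatSheaf.obj).obj (symbols X))

theorem exists_hom_freeMod {M : X.Modules} (g : ∀ V : X.affineOpens, L X → Γ(M, V.1)) :
    ∃ φ : freeMod X ⟶ M, ∀ {K : X.Modules} (q : M ⟶ K), φ ≫ q = 0 → ∀ V l, q.app V.1 (g V l) = 0 := by
  let adj := (PresheafOfModules.freeAdjunction X.ringCatSheaf.obj).comp
    (PresheafOfModules.sheafificationAdjunction (𝟙 X.ringCatSheaf.obj))
  let R := (SheafOfModules.forget X.ringCatSheaf ⋙ PresheafOfModules.restrictScalars (𝟙 X.ringCatSheaf.obj)) ⋙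
    (PresheafOfModules.toPresheaf _ ⋙ (Functor.whiskeringRight _ _ _).obj (CategoryTheory.forget Ab.{u}))
  let c : symbols X ⟶ R.obj M :=
    { app := fun W => ↾fun p => M.presheaf.map (homOfLE p.2).op (g p.1.1 p.1.2)
      naturality := fun W W' i => by
        ext p
        exact (QCoh.map_map (M := M) _ _ _).symm }
  refine ⟨(adj.homEquiv _ M).symm c, fun {K} q hq V l => ?_⟩
  have h1 : (adj.homEquiv _ K) ((adj.homEquiv _ M).symm c ≫ q) = c ≫ R.map q := by
    rw [adj.homEquiv_naturality_right]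
    exact congrArg (· ≫ R.map q) ((adj.homEquiv _ M).apply_symm_apply c)
  have h2 : (adj.homEquiv _ K) ((adj.homEquiv _ M).symm c ≫ (0 : M ⟶ K)) = c ≫ R.map (0 : M ⟶ K) := by
    rw [adj.homEquiv_naturality_right]
    exact congrArg (· ≫ R.map (0 : M ⟶ K)) ((adj.homEquiv _ M).apply_symm_apply c)
  rw [hq] at h1
  rw [comp_zero] at h2
  have h3 := congr(ConcreteCategory.hom ($(h1.symm.trans h2).app (op V.1)) ⟨(V, l), le_rfl⟩)
  refine Eq.trans ?_ ((h3 : _).trans ?_)
  · exact congrArg (q.app V.1) (QCoh.map_id' (M := M) _ _).symm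
  · rfl

theorem exists_epi_hull (a : Node G) :
    ∃ φ : freeMod X ⟶ (hull hG a).toModules, Epi φ := by
  have hmem : ∀ V l, fam hG a V l ∈ (hull hG a).mem V.1 := fun V l => by
    rw [mem_hull_iff]
    unfold fam
    split
    · next h => exact Submodule.subset_span ⟨l, h.choose_spec⟩
    · exact zero_mem _
  choose g hg using fun V l => (hull hG a).exists_app_eq (hmem V l)
  obtain ⟨φ, hφ⟩ := exists_hom_freeMod g
  refine ⟨φ, Preadditive.epi_of_cancel_zero _ fun {K} q hq => ?_⟩
  refine QCoh.hom_eq_zero_of_affine q fun W hW x => ?_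
  have hx := (mem_hull_iff hG a ⟨W, hW⟩ _).1 ((hull hG a).ι_app_mem W x)
  have key : ∀ z ∈ Submodule.span Γ(X, W) (gens hG a ⟨W, hW⟩),
      ∀ y, (hull hG a).ι.app W y = z → q.app W y = 0 := by
    intro z hz
    induction hz using Submodule.span_induction with
    | mem z hz =>
      intro y hy
      obtain ⟨l, hl⟩ := gens_subset_range hG a _ hz
      have hy' : y = g ⟨W, hW⟩ l := (hull hG a).ι_app_injective W (hy.trans ((hl.symm).trans (hg _ _).symm))
      rw [hy']
      exact hφ q hq ⟨W, hW⟩ l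
    | zero => intro y hy; rw [(hull hG a).ι_app_injective W (hy.trans (map_zero _).symm), map_zero]
    | add z z' hz hz' ih ih' =>
      intro y hy
      obtain ⟨t, ht⟩ := (hull hG a).exists_app_eq ((mem_hull_iff hG a ⟨W, hW⟩ z).2 hz)
      obtain ⟨t', ht'⟩ := (hull hG a).exists_app_eq ((mem_hull_iff hG a ⟨W, hW⟩ z').2 hz')
      rw [(hull hG a).ι_app_injective W (hy.trans (by rw [map_add, ht, ht'] : _ = (hull hG a).ι.app W (t + t'))),
        map_add, ih t ht, ih' t' ht', add_zero]
    | smul r z hz ih =>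
      intro y hy
      obtain ⟨t, ht⟩ := (hull hG a).exists_app_eq ((mem_hull_iff hG a ⟨W, hW⟩ z).2 hz)
      rw [(hull hG a).ι_app_injective W (hy.trans (by rw [QCoh.ι_app_smul, ht] : _ = (hull hG a).ι.app W (r • t))),
        Scheme.Modules.Hom.app_smul, ih t ht, smul_zero]
  exact key _ hx x rfl

variable (X) in
/-- The quasi-coherent quotients of the fixed module, up to isomorphism. -/
noncomputable def smallGen :
    ObjectProperty (QCohCat.QCoh X) :=
  ObjectProperty.ofObj fun s : {s : Subobject (freeMod X) // Coh.IsQCoh (cokernel s.arrow)} =>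
    (⟨cokernel s.1.arrow, s.2⟩ : QCohCat.QCoh X)

theorem isSeparating_smallGen : (smallGen X).IsSeparating := by
  intro M N φ ψ h
  apply (QCohCat.isQCoh X).ι.map_injective
  refine sub_eq_zero.1 (QCoh.hom_eq_zero_of_affine _ fun W hW x => ?_)
  let a : Node M.obj := ⟨⟨W, hW⟩, x⟩
  obtain ⟨p, hp⟩ := exists_epi_hull M.property a
  let s := Subobject.mk (kernel.ι p)
  let e : cokernel s.arrow ≅ (hull M.property a).toModules :=
    (cokernel.mapIso _ _ (Subobject.underlyingIso (kernel.ι p)) (Iso.refl _)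
      (by rw [Iso.refl_hom, Category.comp_id, Subobject.underlyingIso_hom_comp_eq_mk])) ≪≫
    ((Abelian.epiIsCokernelOfKernel (KernelFork.ofι (kernel.ι p) (kernel.condition p)) (kernelIsKernel p)).coconePointUniqueUpToIso
      (cokernelIsCokernel (kernel.ι p))).symm
  have hs : Coh.IsQCoh (cokernel s.arrow) := (QCoh.isQCoh_iff_iso e).2 (isQCoh_hull M.property a)
  have h' := congrArg (fun t => t.hom) (h ⟨cokernel s.arrow, hs⟩
    (ObjectProperty.ofObj_apply _ (⟨s, hs⟩ : {s : Subobject (freeMod X) // Coh.IsQCoh (cokernel s.arrow)}))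
    (ObjectProperty.homMk (e.hom ≫ (hull M.property a).ι)))
  have h'' : (hull M.property a).ι ≫ φ.hom = (hull M.property a).ι ≫ ψ.hom := by
    rw [← cancel_epi e.hom, ← Category.assoc, ← Category.assoc]
    exact h'
  obtain ⟨t, ht⟩ := (hull M.property a).exists_app_eq (mem_hull_self M.property a)
  show φ.hom.app W x - ψ.hom.app W x = 0
  rw [show x = (hull M.property a).ι.app W t from ht.symm, sub_eq_zero]
  exact congr(($h'').app W t)

instance small_smallGen : ObjectProperty.Small.{u} (smallGen X) := by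
  unfold smallGen
  infer_instance

instance hasSeparator : HasSeparator (QCohCat.QCoh X) := by
  haveI : HasColimitsOfSize.{u, u} (QCohCat.QCoh X) := hasColimits X
  haveI : HasCoproductsOfShape (Shrink.{u} (Subtype (smallGen X))) (QCohCat.QCoh X) := inferInstance
  let f : Shrink.{u} (Subtype (smallGen X)) → QCohCat.QCoh X := fun i => ((equivShrink _).symm i).1
  refine ⟨⟨∐ f, (isSeparator_sigma f).2 (isSeparating_smallGen.of_le fun A hA => ?_)⟩⟩
  exact (ObjectProperty.ofObj_iff _ _).2 ⟨equivShrink _ ⟨A, hA⟩, by simp [f]⟩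

instance isGrothendieckAbelian : IsGrothendieckAbelian.{u} (QCohCat.QCoh X) where

end Groth.Agent.QCohAb
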