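import Groth.Agent.QCohAb.Gen
import Groth.Agent.FPEnough.Compact
import Groth.Agent.FPEnough.EpiColim
import Groth.Agent.QCoh.Support
import Groth.Agent.KZ.LFRes
import Groth.Agent.IndExt.AdditiveExact
import Mathlib.CategoryTheory.Presentable.Dense
import Mathlib.CategoryTheory.Presentable.StrongGenerator

/-!
# Coherent modules as the compact generators of quasi-coherent modules
-/

set_option autoImplicit false
set_option backward.isDefEq.respectTransparency false
set_option backward.isDefEq.respectTransparency.types false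

universe u v' u'

open CategoryTheory CategoryTheory.Limits AlgebraicGeometry Opposite Cardinal

namespace Groth.Agent.QCohAb

attribute [local instance] fact_isRegular_aleph0

variable (X : Scheme.{u})

/-- Coherent modules. -/
abbrev cohProp : ObjectProperty X.Modules := fun M => Coh.IsCoh M

/-- The inclusion of coherent modules into quasi-coherent modules. -/
abbrev cohι : (cohProp X).FullSubcategory ⥤ QCohCat.QCoh X :=
  ObjectProperty.ιOfLE (P := cohProp X) (P' := QCohCat.isQCoh X) (fun _ h => h.1)

instance : (cohProp X).IsClosedUnderIsomorphisms where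
  of_iso {M N} e h :=
    QCoh.isCoh_of_epi e.hom h ((QCoh.isQCoh_iff_iso e).1 h.1)

section
variable [IsNoetherian X]

instance : (cohProp X).IsClosedUnderKernels where
  kernels_le := by
    rintro _ ⟨f, k, hk, hX, hY⟩
    exact (cohProp X).prop_of_iso (hk.conePointUniqueUpToIso (kernelIsKernel f)).symm
      (QCoh.isCoh_kernel hX hY f)

instance : (cohProp X).IsClosedUnderCokernels where
  cokernels_le := by
    rintro _ ⟨f, k, hk, hX, hY⟩
    exact (cohProp X).prop_of_iso (hk.coconePointUniqueUpToIso (cokernelIsCokernel f)).symm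
      (QCoh.isCoh_cokernel hX.1 hY f)

theorem isFinitelyPresentable_iff_isCoh (M : QCohCat.QCoh X) :
    IsFinitelyPresentable.{u} M ↔ Coh.IsCoh M.obj :=
  ⟨fun h => ⟨M.property, LimModLib.isFT_of_isFP M.property (FPEnough.isFP_of_isFinitelyPresentable M h)⟩,
    fun h => FPEnough.isFinitelyPresentable_of_isFP M (KZ.LFRes.isFP_of_isCoh h)⟩

instance : (cohProp X).ContainsZero where
  exists_zero := by
    obtain ⟨Z, hZ, hq⟩ := ObjectProperty.ContainsZero.exists_zero (P := QCohCat.isQCoh X)
    refine ⟨Z, hZ, hq, (QCoh.isFT_iff hq).2 fun U => ?_⟩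
    haveI : Subsingleton Γ(Z, U.1) := subsingleton_of_forall_eq 0 fun x =>
      congr(($(hZ.eq_of_src (𝟙 Z) 0)).app U.1 x)
    infer_instance

instance : (cohProp X).IsClosedUnderFiniteProducts :=
  ObjectProperty.IsClosedUnderFiniteProducts.of_isClosedUnderLimitsOfShape fun (J : Type u) _ => ⟨by
    rintro _ ⟨h⟩
    classical
    haveI := Fintype.ofFinite J
    haveI := HasFiniteBiproducts.of_hasFiniteProducts (C := X.Modules)
    let T : J → X.Modules := fun j => h.diag.obj ⟨j⟩
    refine (cohProp X).prop_of_iso (h.isLimit.conePointUniqueUpToIso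
      ((IsLimit.postcomposeHomEquiv Discrete.natIsoFunctor.symm _).symm (biproduct.isLimit T))).symm ?_
    exact ⟨QCoh.isQCoh_biproduct T fun j => (h.prop_diag_obj ⟨j⟩).1,
      FPEnough.isFT_biproduct T (fun j => (h.prop_diag_obj ⟨j⟩).1) fun j => (h.prop_diag_obj ⟨j⟩).2⟩⟩

/-- The generating coherent modules. -/
noncomputable def cohGen : ObjectProperty (QCohCat.QCoh X) :=
  fun M => smallGen X M ∧ Coh.IsCoh M.obj

instance : ObjectProperty.Small.{u} (cohGen X) :=
  ObjectProperty.Small.of_le (Q := smallGen X) fun _ h => h.1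

theorem isSeparating_cohGen : (cohGen X).IsSeparating := by
  intro M N φ ψ h
  apply (QCohCat.isQCoh X).ι.map_injective
  refine sub_eq_zero.1 (QCoh.hom_eq_zero_of_affine _ fun W hW x => ?_)
  obtain ⟨H, r, hH, hfp, hx⟩ := FPEnough.exists_isFP_range M.property ⟨W, hW⟩ (Set.finite_singleton x)
  obtain ⟨y, hy⟩ := hx rfl
  have hHcoh : Coh.IsCoh H := ⟨hH, LimModLib.isFT_of_isFP hH hfp⟩
  let a : Node H := ⟨⟨W, hW⟩, y⟩
  obtain ⟨p, hp⟩ := exists_epi_hull hH a
  let s := Subobject.mk (kernel.ι p)
  let e : cokernel s.arrow ≅ (hull hH a).toModules :=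
    (cokernel.mapIso _ _ (Subobject.underlyingIso (kernel.ι p)) (Iso.refl _)
      (by rw [Iso.refl_hom, Category.comp_id, Subobject.underlyingIso_hom_comp_eq_mk])) ≪≫
    ((Abelian.epiIsCokernelOfKernel (KernelFork.ofι (kernel.ι p) (kernel.condition p)) (kernelIsKernel p)).coconePointUniqueUpToIso
      (cokernelIsCokernel (kernel.ι p))).symm
  have hs : Coh.IsQCoh (cokernel s.arrow) := (QCoh.isQCoh_iff_iso e).2 (isQCoh_hull hH a)
  have hG : cohGen X ⟨cokernel s.arrow, hs⟩ :=
    ⟨ObjectProperty.ofObj_apply _ (⟨s, hs⟩ : {s : Subobject (freeMod X) // Coh.IsQCoh (cokernel s.arrow)}),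
      QCoh.isCoh_of_mono (e.hom ≫ (hull hH a).ι) hHcoh hs⟩
  have h' := congrArg (fun t => t.hom) (h ⟨cokernel s.arrow, hs⟩ hG
    (ObjectProperty.homMk (e.hom ≫ (hull hH a).ι ≫ r)))
  have h'' : (hull hH a).ι ≫ r ≫ φ.hom = (hull hH a).ι ≫ r ≫ ψ.hom := by
    rw [← cancel_epi e.hom]
    exact (by simp only [Category.assoc] : _ = (e.hom ≫ (hull hH a).ι ≫ r) ≫ φ.hom).trans (h'.trans (by simp only [Category.assoc]; rfl))
  obtain ⟨t, ht⟩ := (hull hH a).exists_app_eq (mem_hull_self hH a)
  show φ.hom.app W x - ψ.hom.app W x = 0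
  rw [sub_eq_zero, ← hy, show y = (hull hH a).ι.app W t from ht.symm]
  exact congr(($h'').app W t)

theorem isStrongGenerator_cohGen : (cohGen X).IsStrongGenerator := by
  rw [ObjectProperty.isStrongGenerator_iff]
  refine ⟨isSeparating_cohGen X, fun M N i _ h => ?_⟩
  haveI : Epi i := Preadditive.epi_of_cancel_zero _ fun {K} q hq => by
    refine (isSeparating_cohGen X) q 0 fun G hG g => ?_
    obtain ⟨g', hg'⟩ := h G hG g
    rw [← hg']
    change (g' ≫ i) ≫ q = (g' ≫ i) ≫ 0
    rw [Category.assoc, hq, comp_zero, comp_zero]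
  exact isIso_of_mono_of_epi i

theorem cohGen_le : cohGen X ≤ isCardinalPresentable (QCohCat.QCoh X) (ℵ₀ : Cardinal.{u}) :=
  fun M h => (isFinitelyPresentable_iff_isCoh X M).2 h.2

theorem isLfp_qcoh : IsCardinalLocallyPresentable (QCohCat.QCoh X) (ℵ₀ : Cardinal.{u}) :=
  (IsCardinalLocallyPresentable.iff_exists_isStrongGenerator _ _).2
    ⟨cohGen X, inferInstance, isStrongGenerator_cohGen X, cohGen_le X⟩

instance : IsFinitelyAccessibleCategory.{u} (QCohCat.QCoh X) :=
  haveI := isLfp_qcoh X
  inferInstance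

/-- Coherent modules are the compact objects. -/
noncomputable abbrev toCompact :
    (cohProp X).FullSubcategory ⥤ (ObjectProperty.isFinitelyPresentable.{u} (QCohCat.QCoh X)).FullSubcategory :=
  ObjectProperty.lift _ (cohι X) fun M => (isFinitelyPresentable_iff_isCoh X _).2 M.property

instance : (toCompact X).EssSurj where
  mem_essImage M := ⟨⟨M.obj.obj, (isFinitelyPresentable_iff_isCoh X _).1 M.property⟩, ⟨Iso.refl _⟩⟩

instance : (toCompact X).IsEquivalence where

instance : EssentiallySmall.{u} (cohProp X).FullSubcategory :=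
  haveI : EssentiallySmall.{u} (ObjectProperty.isFinitelyPresentable.{u} (QCohCat.QCoh X)).FullSubcategory :=
    inferInstance
  (essentiallySmall_congr (toCompact X).asEquivalence).2 inferInstance

instance : (cohι X).IsDense :=
  inferInstanceAs (toCompact X ⋙ (ObjectProperty.isFinitelyPresentable.{u} (QCohCat.QCoh X)).ι).IsDense

instance (M : QCohCat.QCoh X) : IsFiltered (CostructuredArrow (cohι X) M) :=
  IsFiltered.of_equivalence
    (CostructuredArrow.pre (toCompact X) (ObjectProperty.isFinitelyPresentable.{u} (QCohCat.QCoh X)).ι M).asEquivalence.symm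

instance (p : (cohProp X).FullSubcategory) : IsFinitelyPresentable.{u} ((cohι X).obj p) :=
  (isFinitelyPresentable_iff_isCoh X _).2 p.property

noncomputable instance : Abelian (cohProp X).FullSubcategory := inferInstance

instance : PreservesFiniteLimits (cohι X) := by
  haveI : PreservesFiniteLimits (cohProp X).ι := by
    haveI := fun (M N : (cohProp X).FullSubcategory) (f : M ⟶ N) => (cohProp X).preservesKernels_ι f
    exact Functor.preservesFiniteLimits_of_preservesKernels _
  haveI : PreservesFiniteLimits (cohι X ⋙ (QCohCat.isQCoh X).ι) :=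
    inferInstanceAs (PreservesFiniteLimits (cohProp X).ι)
  exact preservesFiniteLimits_of_reflects_of_preserves (cohι X) (QCohCat.isQCoh X).ι

instance : PreservesFiniteColimits (cohι X) := by
  haveI : PreservesFiniteColimits (cohProp X).ι := by
    haveI := fun (M N : (cohProp X).FullSubcategory) (f : M ⟶ N) => (cohProp X).preservesCokernels_ι f
    exact Functor.preservesFiniteColimits_of_preservesCokernels _
  haveI : PreservesFiniteColimits (cohι X ⋙ (QCohCat.isQCoh X).ι) :=
    inferInstanceAs (PreservesFiniteColimits (cohProp X).ι)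
  exact preservesFiniteColimits_of_reflects_of_preserves (cohι X) (QCohCat.isQCoh X).ι

end

end Groth.Agent.QCohAb

namespace Groth.Agent.QCohAb

instance (X : Scheme.{u}) : (cohι X).Additive where

instance (X : Scheme.{u}) : (cohι X).Full :=
  inferInstanceAs (ObjectProperty.ιOfLE _).Full

instance (X : Scheme.{u}) : (cohι X).Faithful :=
  inferInstanceAs (ObjectProperty.ιOfLE _).Faithful

end Groth.Agent.QCohAb
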