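import Groth.Agent.QCohAb.Gen
import Groth.Agent.FPEnough.Colim
import Mathlib.CategoryTheory.Subobject.NoetherianObject

/-!
# Noetherian objects among quasi-coherent modules
-/

set_option autoImplicit false
set_option backward.isDefEq.respectTransparency false
set_option backward.isDefEq.respectTransparency.types false

universe u

open CategoryTheory CategoryTheory.Limits AlgebraicGeometry TopologicalSpace Opposite

namespace Groth.Agent.QCohAb

variable {X : Scheme.{u}}

/-- The sections of a quasi-coherent subobject. -/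
noncomputable def rangeOn (M : QCohCat.QCoh X) (s : Subobject M) (U : X.Opens) : Submodule Γ(X, U) Γ(M.obj, U) :=
  LinearMap.range (QCoh.appLin s.arrow.hom U)

instance mono_hom {A M : QCohCat.QCoh X} (f : A ⟶ M) [Mono f] : Mono f.hom :=
  inferInstanceAs (Mono ((QCohCat.isQCoh X).ι.map f))

instance epi_hom {A M : QCohCat.QCoh X} (f : A ⟶ M) [Epi f] : Epi f.hom :=
  inferInstanceAs (Epi ((QCohCat.isQCoh X).ι.map f))

theorem le_of_rangeOn (M : QCohCat.QCoh X) (s t : Subobject M) {κ : Type*} (U : κ → X.Opens)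
    (haff : ∀ k, IsAffineOpen (U k)) (hU : ∀ x : X, ∃ k, x ∈ U k)
    (h : ∀ k, rangeOn M s (U k) ≤ rangeOn M t (U k)) : s ≤ t := by
  have hle := QCoh.subobject_le_of_cover (Subobject.underlying.obj s).property (Subobject.underlying.obj t).property
    M.property s.arrow.hom t.arrow.hom U haff hU h
  exact Subobject.le_of_comm (ObjectProperty.homMk (Subobject.ofMkLEMk _ _ hle))
    (InducedCategory.hom_ext (Subobject.ofMkLEMk_comp hle))

theorem rangeOn_mono (M : QCohCat.QCoh X) {s t : Subobject M} (h : s ≤ t) (U : X.Opens) :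
    rangeOn M s U ≤ rangeOn M t U := by
  rintro _ ⟨x, rfl⟩
  exact ⟨(Subobject.ofLE s t h).hom.app U x,
    (congr(($(Subobject.ofLE_arrow h)).hom.app U x) : _)⟩

theorem isNoetherianObject_of_isCoh [IsNoetherian X] (M : QCohCat.QCoh X) (h : Coh.IsCoh M.obj) :
    IsNoetherianObject M := by
  obtain ⟨c, hc⟩ := FPEnough.exists_finite_affine_cover (X := X)
  haveI : ∀ a : c, _root_.IsNoetherian Γ(X, a.1.1) Γ(M.obj, a.1.1) := fun a => by
    haveI : IsNoetherianRing Γ(X, a.1.1) := IsLocallyNoetherian.component_noetherian a.1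
    haveI := QCoh.finite_of_isFT M.property h.2 a.1.2
    infer_instance
  haveI : ∀ a : c, WellFoundedLT (Submodule Γ(X, a.1.1) Γ(M.obj, a.1.1))ᵒᵈ := fun a =>
    ⟨(isNoetherian_iff'.1 inferInstance : WellFoundedGT (Submodule Γ(X, a.1.1) Γ(M.obj, a.1.1))).wf⟩
  haveI : WellFoundedGT (∀ a : c, Submodule Γ(X, a.1.1) Γ(M.obj, a.1.1)) :=
    ⟨(Pi.wellFoundedLT (α := fun a : c => (Submodule Γ(X, a.1.1) Γ(M.obj, a.1.1))ᵒᵈ)).wf⟩
  refine ⟨?_⟩
  show WellFoundedGT (Subobject M)
  refine StrictMono.wellFoundedGT (f := fun s (a : c) => rangeOn M s a.1.1) ?_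
  intro s t hst
  refine lt_of_le_of_ne (fun a => rangeOn_mono M hst.le _) fun he => hst.not_ge ?_
  exact le_of_rangeOn M t s (fun a : c => a.1.1) (fun a => a.1.2)
    (fun x => by obtain ⟨a, ha, hx⟩ := hc x; exact ⟨⟨a, ha⟩, hx⟩) fun a => (congrFun he a).ge

theorem isCoh_of_isNoetherianObject [CompactSpace X] [QuasiSeparatedSpace X] (M : QCohCat.QCoh X)
    [IsNoetherianObject M] : Coh.IsCoh M.obj := by
  let φ : ∀ a : FPEnough.Good M.obj, (⟨a.1.left, a.2.1⟩ : QCohCat.QCoh X) ⟶ M :=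
    fun a => ObjectProperty.homMk a.1.hom
  haveI : Nonempty (FPEnough.Good M.obj) :=
    ⟨(FPEnough.exists_gen M.property ⟨⊥, isAffineOpen_bot X⟩ 0).choose⟩
  obtain ⟨_, ⟨a, rfl⟩, ha⟩ := wellFounded_gt.has_min (Set.range fun a => imageSubobject (φ a))
    (Set.range_nonempty _)
  have hrange : ∀ (V : X.affineOpens) (b : FPEnough.Good M.obj),
      rangeOn M (imageSubobject (φ b)) V.1 = LinearMap.range (QCoh.appLin b.1.hom V.1) := by
    intro V b
    refine le_antisymm ?_ ?_
    · rintro _ ⟨x, rfl⟩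
      obtain ⟨y, rfl⟩ := QCoh.app_surjective_of_epi b.2.1 (Subobject.underlying.obj (imageSubobject (φ b))).property
        (factorThruImageSubobject (φ b)).hom V.2 x
      exact ⟨y, (congr(($(imageSubobject_arrow_comp (φ b))).hom.app V.1 y) : _).symm⟩
    · rintro _ ⟨y, rfl⟩
      exact ⟨(factorThruImageSubobject (φ b)).hom.app V.1 y,
        (congr(($(imageSubobject_arrow_comp (φ b))).hom.app V.1 y) : _)⟩
  haveI : Epi a.1.hom := by
    refine Preadditive.epi_of_cancel_zero _ fun {K} q hq => ?_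
    refine QCoh.hom_eq_zero_of_affine q fun W hW x => ?_
    obtain ⟨b, y, hy⟩ := FPEnough.exists_gen M.property ⟨W, hW⟩ x
    let c : FPEnough.Good M.obj := FPEnough.plus a b
    have hle : imageSubobject (φ a) ≤ imageSubobject (φ c) := by
      have h := imageSubobject_comp_le (ObjectProperty.homMk biprod.inl : (⟨a.1.left, a.2.1⟩ : QCohCat.QCoh X) ⟶ ⟨c.1.left, c.2.1⟩) (φ c)
      have he : (ObjectProperty.homMk biprod.inl : (⟨a.1.left, a.2.1⟩ : QCohCat.QCoh X) ⟶ ⟨c.1.left, c.2.1⟩) ≫ φ c = φ a :=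
        InducedCategory.hom_ext (biprod.inl_desc _ _)
      rwa [he] at h
    have heq : imageSubobject (φ c) = imageSubobject (φ a) :=
      (hle.lt_or_eq.resolve_left fun hlt => ha _ ⟨c, rfl⟩ hlt).symm
    have hx : x ∈ LinearMap.range (QCoh.appLin a.1.hom W) := by
      rw [← hrange ⟨W, hW⟩ a, ← heq, hrange ⟨W, hW⟩ c, ← hy]
      exact ⟨(biprod.inr : b.1.left ⟶ a.1.left ⊞ b.1.left).app W y,
        congr(($(biprod.inr_desc a.1.hom b.1.hom)).app W y)⟩
    obtain ⟨z, rfl⟩ := hx
    exact congr(($hq).app W z)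
  refine ⟨M.property, (QCoh.isFT_iff M.property).2 fun U => ?_⟩
  haveI := QCoh.finite_of_isFT a.2.1 (LimModLib.isFT_of_isFP a.2.1 a.2.2) U.2
  exact Module.Finite.of_surjective (QCoh.appLin a.1.hom U.1)
    (QCoh.app_surjective_of_epi a.2.1 M.property a.1.hom U.2)

end Groth.Agent.QCohAb
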